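import Groth.Agent.ExtCohLib.Basic
import Groth.Agent.HZSubLib.Acyclic
import Groth.Agent.InjModLib.GammaZ
import Groth.Agent.InjModLib.Envelope
import Groth.Agent.LocSuppLib.QCohSupp
import Groth.Agent.QCohGenLib.Main
import Groth.Agent.RDerLib.LeftExact
import Groth.Agent.HomCohLib.Coh
import Groth.Agent.S7769
import Groth.Agent.S7445

/-!
# Quasi-coherence of Ext sheaves with supports
-/

set_option autoImplicit false
set_option linter.style.haveILetI false
set_option backward.isDefEq.respectTransparency false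
set_option backward.isDefEq.respectTransparency.types false

universe w v u w' v' u'

open CategoryTheory Limits AlgebraicGeometry Opposite

namespace Groth.Agent.ExtZQCohLib

/-- Derived functors of a left exact functor preserve a class with enough injectives closed under cokernels. -/
theorem rightDerived_mem {A : Type u} [Category.{v} A] [Abelian A] [HasInjectiveResolutions A]
    {B : Type u'} [Category.{v'} B] [Abelian B] (T : A ⥤ B) [T.Additive] [PreservesFiniteLimits T]
    (P : A → Prop) (Q : B → Prop)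
    (hP : ∀ G, P G → ∃ (J : A) (j : G ⟶ J), Mono j ∧ Injective J ∧ P J ∧ P (cokernel j))
    (hQiso : ∀ {M N : B}, (M ≅ N) → Q M → Q N)
    (hQcok : ∀ {M N : B} (g : M ⟶ N), Q M → Q N → Q (cokernel g))
    (hT : ∀ G, P G → Q (T.obj G)) :
    ∀ (i : ℕ) (G : A), P G → Q ((T.rightDerived i).obj G)
  | 0, G, hG => hQiso (T.rightDerivedZeroIsoSelf.app G).symm (hT G hG)
  | i + 1, G, hG => by
    obtain ⟨J, j, hj, hJ, hPJ, hPC⟩ := hP G hG
    haveI := hj
    haveI := hJ
    let S : ShortComplex A := ShortComplex.mk j (cokernel.π j) (cokernel.condition j)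
    have hS : S.ShortExact :=
      { exact := ShortComplex.exact_cokernel j }
    let δ := (Groth.Agent.RDerLib.derivedLES T).δ S hS i (i + 1) rfl
    have h₁ := (Groth.Agent.RDerLib.derivedLES T).exact₁ S hS i (i + 1) rfl
    have h₃ := (Groth.Agent.RDerLib.derivedLES T).exact₃ S hS i (i + 1) rfl
    haveI : Epi δ := h₁.epi_f ((T.isZero_rightDerived_obj_injective_succ i J).eq_of_tgt _ _)
    refine hQiso (IsColimit.coconePointUniqueUpToIso (cokernelIsCokernel _) h₃.gIsCokernel)
      (hQcok ((T.rightDerived i).map (cokernel.π j)) (rightDerived_mem T P Q hP hQiso hQcok hT i J hPJ)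
        (rightDerived_mem T P Q hP hQiso hQcok hT i _ hPC))

variable {X : Scheme.{u}}

/-- Every quasi-coherent module embeds in an injective quasi-coherent module. -/
theorem exists_qcoh_injective [IsLocallyNoetherian X] (G : X.Modules) (hG : Coh.IsQCoh G) :
    ∃ (J : X.Modules) (j : G ⟶ J), Mono j ∧ Injective J ∧ Coh.IsQCoh J ∧ Coh.IsQCoh (cokernel j) := by
  haveI : EnoughInjectives (QCohCat.QCoh X) := Groth.Agent.QCohGenLib.enoughInjectives X
  let G' : QCohCat.QCoh X := ⟨G, hG⟩
  let P : InjectivePresentation G' := (EnoughInjectives.presentation G').some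
  haveI : Coh.IsQCoh G := hG
  haveI : Coh.IsQCoh P.J.obj := P.J.property
  haveI : Mono P.f := P.mono
  haveI hm : Mono P.f.hom := by
    refine Preadditive.mono_of_kernel_zero ?_
    let k : (⟨kernel P.f.hom, QCohLib.isQCoh_kernel P.f.hom⟩ : QCohCat.QCoh X) ⟶ G' :=
      ObjectProperty.homMk (kernel.ι P.f.hom)
    have hk : k ≫ P.f = 0 := ObjectProperty.hom_ext _ (kernel.condition P.f.hom)
    exact congrArg InducedCategory.Hom.hom ((cancel_mono P.f).1 (hk.trans zero_comp.symm))
  exact ⟨P.J.obj, P.f.hom, hm, Groth.Agent.S7769.result X P.J P.injective, P.J.property,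
    QCohLib.isQCoh_cokernel P.f.hom⟩

/-- The sheaf of homomorphisms out of a coherent module into a quasi-coherent one is quasi-coherent. -/
theorem isQCoh_homMod [IsLocallyNoetherian X] {M N : X.Modules} (hM : Coh.IsCoh M) (hN : Coh.IsQCoh N) :
    Coh.IsQCoh (CohCmpLib.homMod M N) := by
  have : Coh.IsQCoh M := hM.1
  have : Coh.IsQCoh N := hN
  exact (QCohLib.isQCoh_iff_localizingAt _).2 fun U hU g => by
    have : IsNoetherianRing Γ(X, U) := IsLocallyNoetherian.component_noetherian ⟨U, hU⟩
    have := QCohLib.finite_of_isFT hM.2 hU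
    have := Module.finitePresentation_of_finite Γ(X, U) Γ(M, U)
    exact HomCohLib.localizingAt_homMod hU g

/-- The two descriptions of sections with supports agree. -/
theorem nonempty_sectOn_iso (U : X.Opens) (M : X.Modules) :
    Nonempty ((DCoh.gammaZ U.ι).obj M ≅ (ModSite.sectOn X.sheaf U).obj M) := by
  let η := (ModSite.restrPushOverAdj X.sheaf U).unit.app (show ModSite.Mod X.sheaf from M)
  let η' := (Scheme.Modules.restrictAdjunction U.ι).unit.app M
  have key : ∀ {T : X.Modules} (t : T ⟶ M),
      t ≫ η' = 0 ↔ ∀ Y : X.Opens, Y ≤ U → ∀ x, t.app Y x = 0 := by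
    intro T t
    constructor
    · intro h Y hY x
      have h1 : η'.app Y (t.app Y x) = 0 := by
        have h2 := congrArg (fun a : T ⟶ _ => a.app Y x) h
        exact h2
      have e : U.ι ''ᵁ U.ι ⁻¹ᵁ Y = Y := by
        rw [Scheme.Hom.image_preimage_eq_opensRange_inf, Scheme.Opens.opensRange_ι]
        exact inf_of_le_right hY
      haveI : IsIso (homOfLE (U.ι.image_preimage_le Y)) := ⟨homOfLE e.ge, Subsingleton.elim _ _, Subsingleton.elim _ _⟩
      exact (ConcreteCategory.bijective_of_isIso
        (M.presheaf.map (homOfLE (U.ι.image_preimage_le Y)).op)).1 (h1.trans (map_zero _).symm)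
    · intro h
      refine Scheme.Modules.hom_ext _ _ fun V => ?_
      ext x
      show M.presheaf.map (homOfLE (U.ι.image_preimage_le V)).op (t.app V x) = 0
      rw [← QCohLib.app_map t _ x]
      exact h _ (by rw [Scheme.Hom.image_preimage_eq_opensRange_inf, Scheme.Opens.opensRange_ι]; exact inf_le_left) _
  have w₁ : (ModSite.sectOnι X.sheaf U).app M ≫ η' = 0 := (key _).2 fun Y hY x =>
    (CohLib.restr_map_eq_zero_iff (O := X.sheaf) U _).1 (HZSubLib.restr_sectOnι_eq_zero U M) (op Y) ⟨homOfLE hY⟩ x
  have w₂ : (kernel.ι η' : _ ⟶ M) ≫ η = 0 := by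
    apply SheafOfModules.hom_ext
    ext V m
    refine HZSubLib.unit_app_eq_zero U (Q := (show ModSite.Mod X.sheaf from M)) (X := V.unop)
      ((kernel.ι η' : _ ⟶ M).app V.unop m) fun Y g ⟨hY⟩ => ?_
    exact (QCohLib.app_map (kernel.ι η') g m).symm.trans ((key _).1 (kernel.condition η') Y hY.le _)
  exact ⟨{ hom := kernel.lift η (kernel.ι η') w₂
           inv := kernel.lift η' ((ModSite.sectOnι X.sheaf U).app M) w₁
           hom_inv_id := (cancel_mono (kernel.ι η')).1 (by
            rw [Category.assoc, kernel.lift_ι, Category.id_comp]; exact kernel.lift_ι _ _ _)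
           inv_hom_id := (cancel_mono (kernel.ι η)).1 (by
            rw [Category.assoc, kernel.lift_ι, Category.id_comp]; exact kernel.lift_ι _ _ _) }⟩

/-- Sections with supports of a quasi-coherent module are quasi-coherent. -/
theorem isQCoh_sectOn [IsLocallyNoetherian X] (U : X.Opens) (M : X.Modules) (hM : Coh.IsQCoh M) :
    Coh.IsQCoh ((ModSite.sectOn X.sheaf U).obj M : X.Modules) := by
  obtain ⟨e⟩ := nonempty_sectOn_iso U M
  haveI := hM
  haveI : Coh.IsQCoh ((Scheme.Modules.restrictFunctor U.ι).obj M) :=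
    @QCohLib.isQCoh_of_iso _ _ _ ((Scheme.Modules.restrictFunctorIsoPullback U.ι).app M).symm
      (KFlatLib.isQCoh_pullback U.ι M)
  haveI : Coh.IsQCoh ((LocSuppLib.restrPush U.ι).obj M) := QCohLib.isQCoh_pushforward U.ι _
  exact @QCohLib.isQCoh_of_iso _ _ _ e (QCohLib.isQCoh_kernel (M := M) ((Scheme.Modules.restrictAdjunction U.ι).unit.app M))

/-- **Ext sheaves with supports are quasi-coherent.** -/
theorem isQCoh_extZSh [IsLocallyNoetherian X] (U : X.Opens) (F G : X.Modules) (hF : Coh.IsCoh F)
    (hG : Coh.IsQCoh G) [ModSite.HasSheafHom (O := X.sheaf) F] [HasInjectiveResolutions (ModSite.Mod X.sheaf)]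
    (i : ℕ) : Coh.IsQCoh ((ModSite.extZSh (O := X.sheaf) U F i).obj G) := by
  let T := ModSite.sheafHom (O := X.sheaf) F ⋙ ModSite.sectOn X.sheaf U
  haveI : PreservesFiniteLimits (ModSite.sheafHom (O := X.sheaf) F) :=
    haveI : PreservesLimitsOfSize.{0, 0} (ModSite.sheafHom (O := X.sheaf) F) :=
      (ModSite.sheafHomAdj (O := X.sheaf) F).rightAdjoint_preservesLimits
    inferInstance
  haveI : PreservesFiniteLimits (ModSite.sectOn X.sheaf U) :=
    haveI : PreservesLimitsOfSize.{0, 0} (ModSite.sectOn X.sheaf U) :=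
      (CohLib.quotSectAdj U).rightAdjoint_preservesLimits
    inferInstance
  haveI : PreservesFiniteLimits T := comp_preservesFiniteLimits _ _
  refine rightDerived_mem T (fun G : X.Modules => Coh.IsQCoh G) (fun M : X.Modules => Coh.IsQCoh M)
    exists_qcoh_injective (fun e h => @QCohLib.isQCoh_of_iso _ _ _ e h)
    (fun g hM hN => @QCohLib.isQCoh_cokernel _ _ _ g hM hN) (fun N hN => ?_) i G hG
  exact isQCoh_sectOn U _ (@QCohLib.isQCoh_of_iso _ _ _ ((ExtShLib.shIso F).app N).symm (isQCoh_homMod hF hN))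

end Groth.Agent.ExtZQCohLib
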