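import Groth.Agent.CatLib.CM
import Groth.Agent.CMFlatLib.FibreDepth
import Groth.Agent.ExtCohLib.Rees
import Groth.Agent.CommAlgDim.GlobalDim
import Mathlib.RingTheory.LocalProperties.ProjectiveDimension

/-!
# Ext into a regular ring away from one dimension

If the support of `P` contains no prime of height `n` of the regular ring `A`, then `Ext^n(P, A) = 0`.
-/

set_option autoImplicit false
set_option linter.style.haveILetI false
set_option maxHeartbeats 1000000

universe u

open CategoryTheory Abelian CommAlgDim IsLocalRing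

namespace Groth.Agent.ExtZQCohLib

variable {A : Type u} [CommRing A] [IsNoetherianRing A] [IsRegularRing A]

/-- Ext vanishes above the heights of the primes of the support. -/
theorem subsingleton_ext_of_height_lt (P N : ModuleCat.{u} A) [Module.Finite A P] (n : ℕ)
    (h : ∀ q ∈ Module.support A P, q.asIdeal.height < n) : Subsingleton (Ext P N n) := by
  match n with
  | 0 =>
    haveI : Subsingleton P := Module.support_eq_empty_iff.1 (Set.eq_empty_of_forall_notMem fun p hp => by
      exact absurd (h p hp) (not_lt.2 zero_le))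
    refine subsingleton_of_forall_eq 0 fun x => ?_
    obtain ⟨f, rfl⟩ := (Ext.mk₀_bijective P _).2 x
    rw [(ModuleCat.isZero_of_subsingleton P).eq_of_src f 0, Ext.mk₀_zero]
  | n + 1 =>
    haveI : HasProjectiveDimensionLE P n := by
      refine (ModuleCat.hasProjectiveDimensionLE_iff_forall_maximalSpectrum n P).2 fun m => ?_
      let S := m.asIdeal.primeCompl
      haveI : IsLocalizedModule S (P.localizedModuleMkLinearMap S) :=
        ModuleCat.localizedModule_isLocalizedModule P S
      let eQ := LinearEquiv.extendScalarsOfIsLocalization S (Localization S)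
        (IsLocalizedModule.linearEquiv S (LocalizedModule.mkLinearMap S P) (P.localizedModuleMkLinearMap S))
      by_cases hp : m.toPrimeSpectrum ∈ Module.support A P
      · haveI := isRegularRing_iff.1 (inferInstance : IsRegularRing A) m.asIdeal
        have hd : (maximalIdeal (Localization.AtPrime m.asIdeal)).spanFinrank < n + 1 := by
          have h1 : ringKrullDim (Localization.AtPrime m.asIdeal) < ((n + 1 : ℕ) : WithBot ℕ∞) := by
            rw [IsLocalization.AtPrime.ringKrullDim_eq_height m.asIdeal (Localization.AtPrime m.asIdeal)]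
            exact_mod_cast h _ hp
          rw [← IsRegularLocalRing.spanFinrank_maximalIdeal] at h1
          exact_mod_cast h1
        haveI : HasProjectiveDimensionLT (P.localizedModule S) ((maximalIdeal (Localization.AtPrime m.asIdeal)).spanFinrank + 1) :=
          PDLT.of_equiv eQ (pdlt_of_isRegularLocalRing (Localization.AtPrime m.asIdeal) (LocalizedModule m.asIdeal.primeCompl P))
        exact hasProjectiveDimensionLT_of_ge _ _ _ (Nat.succ_le_succ (Nat.lt_succ_iff.1 hd))
      · haveI : Subsingleton (LocalizedModule S P) := Module.notMem_support_iff.1 hp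
        haveI : Subsingleton (P.localizedModule S) := eQ.symm.toEquiv.subsingleton
        haveI : HasProjectiveDimensionLT (P.localizedModule S) 0 :=
          (ModuleCat.isZero_of_subsingleton _).hasProjectiveDimensionLT_zero
        exact hasProjectiveDimensionLT_of_ge _ 0 _ (Nat.zero_le _)
    exact HasProjectiveDimensionLT.subsingleton P (n + 1) (n + 1) le_rfl _

/-- Ext into the ring vanishes below the heights of the primes of the support. -/
theorem subsingleton_ext_of_lt_height (P : ModuleCat.{u} A) [Module.Finite A P] (n : ℕ)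
    (h : ∀ q ∈ Module.support A P, (n : ℕ∞) < q.asIdeal.height) :
    Subsingleton (Ext P (ModuleCat.of A A) n) := by
  refine Groth.Agent.ExtCohLib.subsingleton_ext_of_hasSeqIn (M := ModuleCat.of A A) (N := P)
    (Module.annihilator A P) (n + 1) (Module.support_eq_zeroLocus (R := A) (M := P)).le ?_ n n.lt_succ_self
  refine (hasSeqIn_iff_forall_localization _ _).2 fun q hq hle => ?_
  let T := Localization.AtPrime q
  haveI : IsNoetherianRing T := IsLocalization.isNoetherianRing q.primeCompl _ inferInstance
  have hT : ((n + 1 : ℕ) : WithBot ℕ∞) ≤ ringKrullDim T := by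
    rw [IsLocalization.AtPrime.ringKrullDim_eq_height q T]
    have h1 := h ⟨q, hq⟩ (by rw [Module.support_eq_zeroLocus]; exact hle)
    have h2 : ((n + 1 : ℕ) : ℕ∞) ≤ q.height := by push_cast; exact Order.add_one_le_of_lt h1
    exact_mod_cast h2
  obtain ⟨rs, hl, hm, hr⟩ := (CommAlgDim.le_depth_iff _).1 (CMFlatLib.le_depth_of_isCM (CatLib.isCMRing_of_isRegularRing q) hT)
  refine (CommAlgDim.le_depth_iff _).2 ⟨rs, hl, hm, ?_⟩
  exact (LinearEquiv.extendScalarsOfIsLocalization q.primeCompl T
    (IsLocalizedModule.linearEquiv q.primeCompl (LocalizedModule.mkLinearMap q.primeCompl A)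
      (Algebra.linearMap A T))).isWeaklyRegular_congr rs |>.2 hr

/-- Between a prime of height below `n` and a larger one of height at least `n` lies one of height `n`. -/
theorem exists_height_eq {p q : PrimeSpectrum A} (hpq : p ≤ q) {n : ℕ} (hp : p.asIdeal.height ≤ n)
    (hq : (n : ℕ∞) ≤ q.asIdeal.height) : ∃ r : PrimeSpectrum A, p ≤ r ∧ r ≤ q ∧ r.asIdeal.height = n := by
  classical
  obtain ⟨a, ha⟩ := ENat.ne_top_iff_exists.1 (Ideal.height_ne_top p.2.ne_top : p.asIdeal.height ≠ ⊤)
  obtain ⟨r, hr⟩ : ∃ r, Maximal (fun r : PrimeSpectrum A => p ≤ r ∧ r ≤ q ∧ r.asIdeal.height ≤ n) r := by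
    have hwf : WellFounded ((· > ·) : PrimeSpectrum A → PrimeSpectrum A → Prop) :=
      InvImage.wf PrimeSpectrum.asIdeal (wellFounded_gt : WellFounded ((· > ·) : Ideal A → Ideal A → Prop))
    obtain ⟨r, hr, hmax⟩ := hwf.has_min {r | p ≤ r ∧ r ≤ q ∧ r.asIdeal.height ≤ n} ⟨p, le_rfl, hpq, hp⟩
    exact ⟨r, hr, fun s hs hrs => (eq_of_le_of_not_lt hrs (hmax s hs)).ge⟩
  refine ⟨r, hr.1.1, hr.1.2.1, le_antisymm hr.1.2.2 (not_lt.1 fun hlt => ?_)⟩
  have hrq : r < q := lt_of_le_of_ne hr.1.2.1 fun e => absurd (e ▸ hlt) (not_lt.2 hq)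
  -- an immediate successor of `r` below `q`
  obtain ⟨s, hs, hmin⟩ : ∃ s, (r < s ∧ s ≤ q) ∧ ∀ t, r < t → t ≤ q → ¬ t < s := by
    have hwf : WellFounded ((· < ·) : PrimeSpectrum A → PrimeSpectrum A → Prop) :=
      InvImage.wf (fun t => t.asIdeal.height.toNat) wellFounded_lt |>.mono fun a b hab => by
        have h1 : a.asIdeal.height < b.asIdeal.height := Ideal.height_strict_mono_of_isPrime hab
        show a.asIdeal.height.toNat < b.asIdeal.height.toNat
        obtain ⟨k, hk⟩ := ENat.ne_top_iff_exists.1 (Ideal.height_ne_top a.2.ne_top : a.asIdeal.height ≠ ⊤)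
        obtain ⟨l, hl⟩ := ENat.ne_top_iff_exists.1 (Ideal.height_ne_top b.2.ne_top : b.asIdeal.height ≠ ⊤)
        rw [← hk, ← hl] at h1 ⊢
        exact_mod_cast h1
    obtain ⟨s, hs, hmin⟩ := hwf.has_min {t | r < t ∧ t ≤ q} ⟨q, hrq, le_rfl⟩
    exact ⟨s, hs, fun t h1 h2 => hmin t ⟨h1, h2⟩⟩
  have hcov : r ⋖ s := ⟨hs.1, fun t h1 h2 => hmin t h1 (h2.le.trans hs.2) h2⟩
  haveI : IsLocalRing (Localization.AtPrime s.asIdeal) := inferInstance
  have hh : s.asIdeal.height ≤ r.asIdeal.height + 1 := by
    let T := Localization.AtPrime s.asIdeal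
    haveI := isRegularRing_iff.1 (inferInstance : IsRegularRing A) s.asIdeal
    haveI := CommAlgDim.isDomain_of_isRegularLocalRing T
    have hcat : CAlg.IsCatenary T := CatLib.isCatenary_localization s.asIdeal.primeCompl T
      (CatLib.isCatenary_of_isCMRing CatLib.isCMRing_of_isRegularRing)
    let e := CatLib.locEmb s.asIdeal.primeCompl T
    have hrange : ∀ t : PrimeSpectrum A, t ≤ s → ∃ t', e t' = t := fun t ht => by
      have : t ∈ Set.range e := by
        rw [CatLib.range_locEmb]
        exact Set.disjoint_left.2 fun x hx hxt => hx (ht hxt)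
      exact this
    obtain ⟨r', hr'⟩ := hrange r hs.1.le
    obtain ⟨s', hs'⟩ := hrange s le_rfl
    have hcov' : r' ⋖ s' := by
      refine ⟨e.lt_iff_lt.1 (by rw [hr', hs']; exact hs.1), fun t h1 h2 => hcov.2 (c := e t) ?_ ?_⟩
      · exact (e.lt_iff_lt.2 h1).trans_eq' hr'
      · exact (e.lt_iff_lt.2 h2).trans_eq hs'
    have hkey := CatLib.isCatenary_height_covBy hcat hcov'
    have hu : ∀ t : PrimeSpectrum T, (e t).asIdeal.height = t.asIdeal.height := fun t =>
      IsLocalization.height_under s.asIdeal.primeCompl t.asIdeal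
    rw [← hu, ← hu, hr', hs'] at hkey
    exact hkey.le
  have hmem : p ≤ s ∧ s ≤ q ∧ s.asIdeal.height ≤ n :=
    ⟨hr.1.1.trans hs.1.le, hs.2, hh.trans (Order.add_one_le_of_lt hlt)⟩
  exact absurd (hr.2 hmem hs.1.le) (not_le_of_gt hs.1)

/-- **Ext into a regular ring vanishes in degrees that are not heights of primes of the support.** -/
theorem subsingleton_ext_of_height_ne (P : Type u) [AddCommGroup P] [Module A P] [hfin : Module.Finite A P] (n : ℕ)
    (h : ∀ q ∈ Module.support A P, q.asIdeal.height ≠ n) :
    Subsingleton (Ext (ModuleCat.of A P) (ModuleCat.of A A) n) := by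
  revert h
  induction hfin using IsNoetherianRing.induction_on_isQuotientEquivQuotientPrime A with
  | subsingleton N =>
    intro _
    refine subsingleton_of_forall_eq 0 fun x => ?_
    rw [← Ext.mk₀_id_comp x, (ModuleCat.isZero_of_subsingleton (ModuleCat.of A N)).eq_of_src (𝟙 _) 0,
      Ext.mk₀_zero, Ext.zero_comp]
  | quotient N p f =>
    intro h
    have hs : Module.support A N = PrimeSpectrum.zeroLocus p.asIdeal := by
      rw [f.support_eq, Module.support_eq_zeroLocus, Ideal.annihilator_quotient]
    have hpmem : p ∈ Module.support A N := by rw [hs]; exact fun x hx => hx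
    rcases lt_or_gt_of_ne (h p hpmem) with hlt | hgt
    · refine subsingleton_ext_of_height_lt (ModuleCat.of A N) _ n fun q hq => not_le.1 fun hge => ?_
      have hpq : p ≤ q := by rw [hs] at hq; exact hq
      obtain ⟨r, hr1, -, hr3⟩ := exists_height_eq hpq hlt.le hge
      exact h r (by rw [hs]; exact hr1) hr3
    · refine subsingleton_ext_of_lt_height (ModuleCat.of A N) n fun q hq => lt_of_lt_of_le hgt ?_
      have hpq : p ≤ q := by rw [hs] at hq; exact hq
      exact Ideal.height_mono hpq
  | exact N₁ N₂ N₃ f g hf hg hex h₁ h₃ =>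
    intro h
    have hse : (ShortComplex.moduleCatMk f g hex.linearMap_comp_eq_zero).ShortExact :=
      { exact := (ShortComplex.ShortExact.moduleCat_exact_iff_function_exact _).2 hex
        mono_f := (ModuleCat.mono_iff_injective _).2 hf
        epi_g := (ModuleCat.epi_iff_surjective _).2 hg }
    have i₁ := h₁ fun q hq => h q (Module.support_subset_of_injective f hf hq)
    have i₃ := h₃ fun q hq => h q (Module.support_subset_of_surjective g hg hq)
    refine subsingleton_of_forall_eq 0 fun x => ?_
    obtain ⟨x₁, rfl⟩ := Ext.contravariant_sequence_exact₂ hse _ x (@Subsingleton.elim _ i₁ _ _)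
    rw [@Subsingleton.elim _ i₃ x₁ 0]
    exact Ext.comp_zero _ _ _ _ _

end Groth.Agent.ExtZQCohLib
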