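import Groth.Agent.ExtZQCohLib.Split
import Groth.Agent.ExtZQCohLib.Dim
import Groth.Agent.RegLCILib.Scheme

/-!
# The vanishing condition from depth, and on a regular scheme away from one dimension
-/

set_option autoImplicit false
set_option linter.style.haveILetI false
set_option linter.unusedSectionVars false
set_option backward.isDefEq.respectTransparency false
set_option backward.isDefEq.respectTransparency.types false
set_option maxHeartbeats 1000000

universe u

open CategoryTheory Limits AlgebraicGeometry Opposite TopologicalSpace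

noncomputable section

namespace Groth.Agent.ExtZQCohLib

variable {X : Scheme.{u}} [IsLocallyNoetherian X] (U : X.Opens) (F : X.Modules)
  [ModSite.HasSheafHom (O := X.sheaf) F]

/-- Depth on the support away from `U` gives the condition below the depth. -/
theorem cond_of_depth {G : X.Modules} (hG : Coh.IsCoh G) (n : ℕ)
    (h : ∀ x ∈ CohB1.support F, x ∉ (U : Set X) →
      (n : ℕ∞) ≤ LocCoh.depth (X.presheaf.stalk x) (G.presheaf.stalk x)) (i : ℕ) (hi : i < n) :
    Cond U F i G := by
  intro W hW P hfin hsupp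
  haveI : IsNoetherianRing Γ(X, W) := IsLocallyNoetherian.component_noetherian ⟨W, hW⟩
  haveI := hfin
  haveI := hG.1
  haveI : Module.Finite Γ(X, W) Γ(G, W) := QCohLib.finite_of_isFT hG.2 hW
  refine Groth.Agent.ExtCohLib.subsingleton_ext_of_hasSeqIn (M := ModuleCat.of Γ(X, W) Γ(G, W)) (N := P)
    (Module.annihilator Γ(X, W) P) n (Module.support_eq_zeroLocus (R := Γ(X, W)) (M := P)).le ?_ i hi
  refine (CommAlgDim.hasSeqIn_iff_forall_localization _ _).2 fun p hp hle => ?_
  obtain ⟨y, hy, hyp⟩ := Groth.Agent.ExtCohLib.exists_point hW ⟨p, hp⟩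
  have hmem : hW.primeIdealOf ⟨y, hy⟩ ∈ Module.support Γ(X, W) P := by
    rw [hyp, Module.support_eq_zeroLocus]; exact hle
  obtain ⟨h1, h2⟩ := hsupp y hy hmem
  letI := Module.compHom (G.presheaf.stalk y) (X.presheaf.germ W y hy).hom
  letI : Algebra Γ(X, W) (X.presheaf.stalk y) := (X.presheaf.germ W y hy).hom.toAlgebra
  haveI : IsScalarTower Γ(X, W) (X.presheaf.stalk y) (G.presheaf.stalk y) :=
    IsScalarTower.of_algebraMap_smul fun _ _ ↦ rfl
  haveI : IsLocalization.AtPrime (X.presheaf.stalk y) p := by
    have hloc := hW.isLocalization_stalk ⟨y, hy⟩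
    rw [hyp] at hloc
    exact hloc
  haveI : IsLocalizedModule p.primeCompl (FlatLib.germLin G hy) := by
    have hlm := FlatLib.isLocalizedModule_germLin G hW hy
    rw [hyp] at hlm
    exact hlm
  exact (LocSuppLib.le_depth_iff_localization p (FlatLib.germLin G hy) n).1 (h y h1 h2)

/-- On a regular scheme the structure module satisfies the condition away from the dimensions on the support. -/
theorem cond_of_dim_ne (hreg : ∀ x : X, IsRegularLocalRing (X.presheaf.stalk x)) (n : ℕ)
    (h : ∀ x ∈ CohB1.support F, x ∉ (U : Set X) → ringKrullDim (X.presheaf.stalk x) ≠ (n : WithBot ℕ∞)) :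
    Cond U F n (Coh.structureModule X) := by
  intro W hW P hfin hsupp
  haveI : IsNoetherianRing Γ(X, W) := IsLocallyNoetherian.component_noetherian ⟨W, hW⟩
  haveI : IsRegularRing Γ(X, W) := RegLCILib.isRegularRing_section hreg hW
  haveI := hfin
  refine subsingleton_ext_of_height_ne (A := Γ(X, W)) P n fun q hq he => ?_
  obtain ⟨y, hy, rfl⟩ := Groth.Agent.ExtCohLib.exists_point hW q
  obtain ⟨h1, h2⟩ := hsupp y hy hq
  letI : Algebra Γ(X, W) (X.presheaf.stalk y) := (X.presheaf.germ W y hy).hom.toAlgebra
  haveI : IsLocalization.AtPrime (X.presheaf.stalk y) (hW.primeIdealOf ⟨y, hy⟩).asIdeal :=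
    hW.isLocalization_stalk ⟨y, hy⟩
  refine h y h1 h2 ?_
  rw [IsLocalization.AtPrime.ringKrullDim_eq_height (hW.primeIdealOf ⟨y, hy⟩).asIdeal (X.presheaf.stalk y), he]
  rfl

end Groth.Agent.ExtZQCohLib
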