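import Groth.Agent.ExtZQCohLib.Vanish
import Groth.Agent.HZSubLib.HomSect
import Groth.Agent.DevissLib.Basic

/-!
# Coherence of Ext sheaves with supports by splitting off the sections supported away from `U`
-/

set_option autoImplicit false
set_option linter.style.haveILetI false
set_option linter.unusedSectionVars false
set_option backward.isDefEq.respectTransparency false
set_option backward.isDefEq.respectTransparency.types false
set_option maxHeartbeats 1000000

universe u

open CategoryTheory Limits AlgebraicGeometry Opposite TopologicalSpace HomologicalComplex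
open PnDualLib (homFun)

noncomputable section

namespace Groth.Agent.ExtZQCohLib

variable {X : Scheme.{u}} (U : X.Opens)

/-- The complex `ℋom(M, Γ_Z I)`. -/
abbrev zcx (M : X.Modules) {G : X.Modules} (I : InjectiveResolution G) : CochainComplex X.Modules ℕ :=
  ((homFun M).mapHomologicalComplex _).obj
    (((ModSite.sectOn X.sheaf U : X.Modules ⥤ X.Modules).mapHomologicalComplex _).obj I.cocomplex)

theorem nonempty_extZSh_zcx [HasInjectiveResolutions X.Modules] [HasInjectiveResolutions (ModSite.Mod X.sheaf)]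
    (M G : X.Modules) (I : InjectiveResolution G) [ModSite.HasSheafHom (O := X.sheaf) M] (i : ℕ) :
    Nonempty ((ModSite.extZSh (O := X.sheaf) U M i).obj G ≅ (zcx U M I).homology i) := by
  let ν : TZ U M ≅ (ModSite.sectOn X.sheaf U : X.Modules ⥤ X.Modules) ⋙ homFun M :=
    HZSubLib.sheafHomSectOnIso (O := X.sheaf) U M ≪≫ Functor.isoWhiskerLeft _ (ExtShLib.shIso M)
  let β : ((TZ U M).mapHomologicalComplex _).obj I.cocomplex ≅ zcx U M I :=
    HomologicalComplex.Hom.isoOfComponents (fun k => ν.app _) fun k l _ => (ν.hom.naturality _).symm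
  exact ⟨I.isoRightDerivedObj (TZ U M) i ≪≫
    (HomologicalComplex.homologyFunctor _ (ComplexShape.up ℕ) i).mapIso β⟩

variable [IsLocallyNoetherian X] [HasInjectiveResolutions X.Modules] [HasInjectiveResolutions (ModSite.Mod X.sheaf)]

attribute [local instance] ModSiteLib.hasSheafHom

/-- Ext with supports of an extension is coherent if those of the sub are and those of the quotient vanish. -/
theorem isCoh_extZSh_of_shortExact {S : ShortComplex X.Modules} (hS : S.ShortExact) (G : X.Modules)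
    (h₂ : Coh.IsCoh S.X₂) (hG : Coh.IsQCoh G) (i : ℕ) [ModSite.HasSheafHom (O := X.sheaf) S.X₂]
    (h₃ : IsZero ((ModSite.extZSh (O := X.sheaf) U S.X₃ i).obj G))
    (h₁ : Coh.IsCoh ((ModSite.extZSh (O := X.sheaf) U S.X₁ i).obj G)) :
    Coh.IsCoh ((ModSite.extZSh (O := X.sheaf) U S.X₂ i).obj G) := by
  let I := injectiveResolution G
  let J : CochainComplex X.Modules ℕ :=
    ((ModSite.sectOn X.sheaf U : X.Modules ⥤ X.Modules).mapHomologicalComplex _).obj I.cocomplex
  let a : zcx U S.X₃ I ⟶ zcx U S.X₂ I := (NatTrans.mapHomologicalComplex (ExtShLib.preNat S.g) _).app J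
  let b : zcx U S.X₂ I ⟶ zcx U S.X₁ I := (NatTrans.mapHomologicalComplex (ExtShLib.preNat S.f) _).app J
  have w : a ≫ b = 0 := HomologicalComplex.hom_ext _ _ fun k => (ExtShLib.preSeq S (J.X k)).zero
  have hT : (ShortComplex.mk a b w).ShortExact :=
    HomologicalComplex.shortExact_of_degreewise_shortExact _ fun k => by
      haveI : Injective (show ModSite.Mod X.sheaf from I.cocomplex.X k) := I.injective k
      haveI : Injective (J.X k) := CohLib.injective_sectOn (O := X.sheaf) U (I.cocomplex.X k)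
      exact ExtShLib.preSeq_shortExact hS (J.X k)
  obtain ⟨e₁⟩ := nonempty_extZSh_zcx U S.X₁ G I i
  obtain ⟨e₂⟩ := nonempty_extZSh_zcx U S.X₂ G I i
  obtain ⟨e₃⟩ := nonempty_extZSh_zcx U S.X₃ G I i
  haveI : Mono (homologyMap b i) := (hT.homology_exact₂ i).mono_g ((h₃.of_iso e₃.symm).eq_of_src _ _)
  exact QCohLib.isCoh_of_mono (e₂.hom ≫ homologyMap b i ≫ e₁.inv) h₁ (isQCoh_extZSh U S.X₂ G h₂ hG i)

/-- The splitting of a coherent module. -/
theorem exists_split (F : X.Modules) (hF : Coh.IsCoh F) :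
    ∃ S : ShortComplex X.Modules, S.ShortExact ∧ S.X₂ = F ∧ Coh.IsCoh S.X₁ ∧ Coh.IsCoh S.X₃ ∧
      (∀ x ∈ CohB1.support S.X₁, x ∉ (U : Set X)) ∧
      CohB1.support S.X₃ ⊆ closure (CohB1.support F ∩ (U : Set X)) := by
  haveI : Mono (sι U F) := equalizer.ι_mono
  have h₁ : Coh.IsCoh (sO U F) := QCohLib.isCoh_of_mono (sι U F) hF (isQCoh_sectOn U F hF.1)
  let S : ShortComplex X.Modules := ShortComplex.mk (sι U F) (cokernel.π (sι U F)) (cokernel.condition _)
  refine ⟨S, { exact := ShortComplex.exact_cokernel _ }, rfl, h₁, QCohLib.isCoh_cokernel _ h₁.1 hF, ?_, ?_⟩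
  · intro x hx hxU
    obtain ⟨c, hc⟩ := (DevissLib.mem_support_iff_nonzero _ x).mp hx
    obtain ⟨V, hV, t, rfl⟩ := TopCat.Presheaf.exists_germ_eq (sO U F).presheaf (x := x) c
    have hz := (exists_sectOn_app_iff U F ((sι U F).app V t)).1 ⟨t, rfl⟩ x hxU hV
    have hmem : x ∈ U ⊓ V := ⟨hxU, hV⟩
    have ht : (sι U F).app (U ⊓ V) ((sO U F).presheaf.map (homOfLE (inf_le_right : U ⊓ V ≤ V)).op t) = 0 :=
      (CohLib.restr_map_eq_zero_iff (O := X.sheaf) U _).1 (HZSubLib.restr_sectOnι_eq_zero U F) (op (U ⊓ V))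
        ⟨homOfLE (inf_le_left : U ⊓ V ≤ U)⟩ _
    have ht' := QCohLib.app_injective_of_mono (sι U F) (U ⊓ V) (ht.trans (map_zero _).symm)
    refine hc ?_
    refine (TopCat.Presheaf.germ_res_apply (sO U F).presheaf (homOfLE (inf_le_right : U ⊓ V ≤ V)) x hmem t).symm.trans ?_
    exact (congrArg ((sO U F).presheaf.germ (U ⊓ V) x hmem) ht').trans (map_zero _)
  · intro x hx
    by_contra hc
    refine DevissLib.notMem_support_cokernel (sι U F) x (fun g => ?_) hx
    obtain ⟨V, hV, t, rfl⟩ := TopCat.Presheaf.exists_germ_eq F.presheaf (x := x) g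
    let O : X.Opens := ⟨(closure (CohB1.support F ∩ (U : Set X)))ᶜ, isClosed_closure.isOpen_compl⟩
    have hmem : x ∈ V ⊓ O := ⟨hV, hc⟩
    obtain ⟨a, ha⟩ := (exists_sectOn_app_iff U F (F.presheaf.map (homOfLE (inf_le_left : V ⊓ O ≤ V)).op t)).2
      fun y hyU hy => by
        haveI : Subsingleton (F.presheaf.stalk y) := by
          by_contra h
          exact hy.2 (subset_closure ⟨h, hyU⟩)
        exact Subsingleton.elim _ _
    refine ⟨(sO U F).presheaf.germ (V ⊓ O) x hmem a, ?_⟩
    refine (TopCat.Presheaf.stalkFunctor_map_germ_apply (V ⊓ O) x hmem (Scheme.Modules.Hom.mapPresheaf (sι U F)) a).trans ?_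
    exact (congrArg (F.presheaf.germ (V ⊓ O) x hmem) ha).trans (TopCat.Presheaf.germ_res_apply F.presheaf _ x hmem t)

end Groth.Agent.ExtZQCohLib
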