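import Groth.Agent.ExtZQCohLib.Basic
import Groth.Agent.ExtCohLib.Depth
import Groth.Agent.CommAlgDim.GlobalDim
import Mathlib.RingTheory.LocalProperties.ProjectiveDimension

/-!
# Vanishing of Ext sheaves with supports

The `i`-th Ext sheaf with supports vanishes if `Ext^i(P, Γ(G, W))` vanishes on every affine open `W`
for the finite modules `P` supported on the part of the support of `F` away from `U`.
-/

set_option autoImplicit false
set_option linter.style.haveILetI false
set_option linter.unusedSectionVars false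
set_option backward.isDefEq.respectTransparency false
set_option backward.isDefEq.respectTransparency.types false
set_option maxHeartbeats 1000000

universe u

open CategoryTheory Limits AlgebraicGeometry Opposite TopologicalSpace
open ProjFormLib (ger res ger_res ger_smul section_ext)
open CohCmpLib (homMod happ hVal ger_happ)

noncomputable section

namespace Groth.Agent.ExtZQCohLib

variable {X : Scheme.{u}}

/-- A map of modules on an open, as a linear map. -/
def appLin {M N : X.Modules} (φ : M ⟶ N) (W : X.Opens) : Γ(M, W) →ₗ[Γ(X, W)] Γ(N, W) where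
  toFun := φ.app W
  map_add' := map_add (φ.app W).hom
  map_smul' r m := QCohLib.app_smul φ W r m

/-- A section all of whose germs at points of `U` vanish. -/
def Vanishes (U : X.Opens) {M : X.Modules} {W : X.Opens} (s : Γ(M, W)) : Prop :=
  ∀ y ∈ U, ∀ hy : y ∈ W, M.presheaf.germ W y hy s = 0

theorem freeUEquiv_zero (W : X.Opens) (M : X.Modules) : KFlatLib.freeUEquiv W M 0 = 0 := by
  have h := KFlatLib.freeUEquiv_comp W (𝟙 (KFlatLib.freeU W)) (0 : KFlatLib.freeU W ⟶ M)
  rw [comp_zero] at h
  exact h.trans rfl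

theorem secMap_eq_zero {M : X.Modules} {W : X.Opens} {s : Γ(M, W)} (h : s = 0) : KFlatLib.secMap s = 0 := by
  apply (KFlatLib.freeUEquiv W M).injective
  rw [KFlatLib.secMap, Equiv.apply_symm_apply, freeUEquiv_zero, h]

variable (U : X.Opens)

/-- Sections with supports, as a module. -/
abbrev sO (M : X.Modules) : X.Modules := (ModSite.sectOn X.sheaf U).obj M

/-- The inclusion of sections with supports. -/
abbrev sι (M : X.Modules) : sO U M ⟶ M := (ModSite.sectOnι X.sheaf U).app M

theorem exists_sectOn_app_iff (M : X.Modules) {W : X.Opens} (s : Γ(M, W)) :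
    (∃ a, (sι U M).app W a = s) ↔ Vanishes U s := by
  obtain ⟨e⟩ := nonempty_sectOn_iso U M
  let η' := (Scheme.Modules.restrictAdjunction U.ι).unit.app M
  have key : ∀ (V : X.Opens) (a : Γ(sO U M, V)), Vanishes U ((sι U M).app V a) := by
    intro V a y hy hyV
    have h1 : M.presheaf.map (homOfLE (inf_le_right : U ⊓ V ≤ V)).op ((sι U M).app V a) = 0 := by
      refine (QCohLib.app_map (sι U M) (homOfLE (inf_le_right : U ⊓ V ≤ V)) a).symm.trans ?_
      exact (CohLib.restr_map_eq_zero_iff (O := X.sheaf) U _).1 (HZSubLib.restr_sectOnι_eq_zero U M) (op (U ⊓ V))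
        ⟨homOfLE (inf_le_left : U ⊓ V ≤ U)⟩ _
    have hmem : y ∈ U ⊓ V := ⟨hy, hyV⟩
    refine (TopCat.Presheaf.germ_res_apply M.presheaf (homOfLE (inf_le_right : U ⊓ V ≤ V)) y hmem _).symm.trans ?_
    exact (congrArg (M.presheaf.germ (U ⊓ V) y hmem) h1).trans (map_zero _)
  constructor
  · rintro ⟨a, rfl⟩
    exact key W a
  · intro h
    have h0 : KFlatLib.secMap s ≫ η' = 0 := by
      refine (KFlatLib.secMap_comp s η').trans (secMap_eq_zero ?_)
      exact (InjModLib.unit_app_eq_zero_iff U.ι M W s).2 fun y hy hyW => by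
        rw [Scheme.Opens.opensRange_ι] at hy
        exact h y hy hyW
    let η := (ModSite.restrPushOverAdj X.sheaf U).unit.app (show ModSite.Mod X.sheaf from M)
    have w : (kernel.ι η' : _ ⟶ M) ≫ η = 0 := by
      apply SheafOfModules.hom_ext
      ext V m
      refine HZSubLib.unit_app_eq_zero U (Q := (show ModSite.Mod X.sheaf from M)) (X := V.unop)
        ((kernel.ι η' : _ ⟶ M).app V.unop m) fun Y g ⟨hY⟩ => ?_
      have h2 : η'.app Y ((kernel.ι η' : _ ⟶ M).app Y
          (((DCoh.gammaZ U.ι).obj M).presheaf.map g.op m)) = 0 :=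
        congrArg (fun q : kernel η' ⟶ _ => q.app Y (((DCoh.gammaZ U.ι).obj M).presheaf.map g.op m))
          (kernel.condition η')
      refine ((QCohLib.app_map (kernel.ι η') g m).symm).trans ?_
      exact (InjModLib.unit_app_bijective U.ι M (O := Y) (by rw [Scheme.Opens.opensRange_ι]; exact hY.le)).1
        (h2.trans (map_zero _).symm)
    obtain ⟨l, hl⟩ : ∃ l : KFlatLib.freeU W ⟶ sO U M, l ≫ sι U M = KFlatLib.secMap s :=
      ⟨kernel.lift η' _ h0 ≫ kernel.lift η (kernel.ι η') w, by
        rw [Category.assoc]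
        exact (congrArg (kernel.lift η' _ h0 ≫ ·) (kernel.lift_ι η (kernel.ι η') w)).trans (kernel.lift_ι _ _ _)⟩
    exact ⟨l.app W (KFlatLib.genU W), (congrArg (fun q : KFlatLib.freeU W ⟶ M => q.app W (KFlatLib.genU W)) hl).trans
      (KFlatLib.secMap_gen s)⟩

theorem vanishes_map {M N : X.Modules} (φ : M ⟶ N) {W : X.Opens} {s : Γ(M, W)} (h : Vanishes U s) :
    Vanishes U (φ.app W s) := fun y hy hyW => by
  obtain ⟨a, rfl⟩ := (exists_sectOn_app_iff U M s).2 h
  let ψ : sO U M ⟶ sO U N := (ModSite.sectOn X.sheaf U).map φ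
  refine (exists_sectOn_app_iff U N _).1 ⟨ψ.app W a, ?_⟩ y hy hyW
  exact congrArg (fun q : sO U M ⟶ N => q.app W a) ((ModSite.sectOnι X.sheaf U).naturality φ)

variable (F : X.Modules) [ModSite.HasSheafHom (O := X.sheaf) F]

/-- Sections with supports of the sheaf of homomorphisms. -/
abbrev TZ : X.Modules ⥤ X.Modules := ModSite.sheafHom (O := X.sheaf) F ⋙ ModSite.sectOn X.sheaf U

/-- The inclusion into the sheaf of homomorphisms. -/
def toHom (N : X.Modules) : (TZ U F).obj N ⟶ homMod F N :=
  sι U ((ModSite.sheafHom (O := X.sheaf) F).obj N) ≫ (ExtShLib.shIso F).hom.app N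

instance mono_toHom (N : X.Modules) : Mono (toHom U F N) :=
  haveI : Mono (sι U ((ModSite.sheafHom (O := X.sheaf) F).obj N)) := equalizer.ι_mono
  mono_comp _ _

theorem toHom_naturality {N N' : X.Modules} (φ : N ⟶ N') :
    (TZ U F).map φ ≫ toHom U F N' = toHom U F N ≫ HomCohLib.mapR F φ := by
  let Hφ : ((ModSite.sheafHom (O := X.sheaf) F).obj N : X.Modules) ⟶ (ModSite.sheafHom (O := X.sheaf) F).obj N' :=
    (ModSite.sheafHom (O := X.sheaf) F).map φ
  have h1 : (TZ U F).map φ ≫ sι U _ = sι U _ ≫ Hφ :=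
    (ModSite.sectOnι X.sheaf U).naturality ((ModSite.sheafHom (O := X.sheaf) F).map φ)
  have h2 : Hφ ≫ (ExtShLib.shIso F).hom.app N' = (ExtShLib.shIso F).hom.app N ≫ HomCohLib.mapR F φ :=
    ((ExtShLib.shIso F).hom.naturality φ).trans (congrArg (_ ≫ ·) (PnDualLib.homFun_map F φ))
  rw [toHom, toHom, ← Category.assoc, h1, Category.assoc, h2, ← Category.assoc]

theorem exists_toHom_app_iff (N : X.Modules) {W : X.Opens} (s : Γ(homMod F N, W)) :
    (∃ a, (toHom U F N).app W a = s) ↔ Vanishes U s := by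
  let Hs : X.Modules := (ModSite.sheafHom (O := X.sheaf) F).obj N
  let σ : Hs ≅ homMod F N := (ExtShLib.shIso F).app N
  constructor
  · rintro ⟨a, rfl⟩
    exact vanishes_map U σ.hom ((exists_sectOn_app_iff U Hs ((sι U Hs).app W a)).1 ⟨a, rfl⟩)
  · intro h
    obtain ⟨a, ha⟩ := (exists_sectOn_app_iff U Hs (σ.inv.app W s)).2 (vanishes_map U σ.inv h)
    exact ⟨a, (congrArg (σ.hom.app W) ha).trans
      (congrArg (fun q : homMod F N ⟶ homMod F N => q.app W s) σ.inv_hom_id)⟩

variable [IsLocallyNoetherian X] (hF : Coh.IsCoh F)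

/-- The condition on a module for the vanishing in degree `i`. -/
def Cond (i : ℕ) (G : X.Modules) : Prop :=
  ∀ (W : X.Opens) (hW : IsAffineOpen W) (P : ModuleCat.{u} Γ(X, W)), Module.Finite Γ(X, W) P →
    (∀ (y : X) (hy : y ∈ W), hW.primeIdealOf ⟨y, hy⟩ ∈ Module.support Γ(X, W) P →
      y ∈ CohB1.support F ∧ y ∉ (U : Set X)) →
    Subsingleton (Abelian.Ext P (ModuleCat.of Γ(X, W) Γ(G, W)) i)

include hF in
/-- A section of the sheaf of homomorphisms vanishing on `U` factors through a module with small support. -/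
theorem exists_factor {N : X.Modules} [Coh.IsQCoh N] {W : X.Opens} (hW : IsAffineOpen W) (s : Γ(homMod F N, W))
    (hs : Vanishes U s) :
    ∃ (P : ModuleCat.{u} Γ(X, W)) (π : ModuleCat.of Γ(X, W) Γ(F, W) ⟶ P) (ψ : P ⟶ ModuleCat.of Γ(X, W) Γ(N, W)),
      Module.Finite Γ(X, W) P ∧
      (∀ (y : X) (hy : y ∈ W), hW.primeIdealOf ⟨y, hy⟩ ∈ Module.support Γ(X, W) P →
        y ∈ CohB1.support F ∧ y ∉ (U : Set X)) ∧
      π ≫ ψ = ModuleCat.ofHom (HomCohLib.lin (M := F) (N := N) W s) ∧
      ∀ (N' : X.Modules) (_ : Coh.IsQCoh N') (ψ' : P ⟶ ModuleCat.of Γ(X, W) Γ(N', W)) (s' : Γ(homMod F N', W)),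
        π ≫ ψ' = ModuleCat.ofHom (HomCohLib.lin (M := F) (N := N') W s') → Vanishes U s' := by
  classical
  haveI := hF.1
  haveI : IsNoetherianRing Γ(X, W) := IsLocallyNoetherian.component_noetherian ⟨W, hW⟩
  haveI : Module.Finite Γ(X, W) Γ(F, W) := QCohLib.finite_of_isFT hF.2 hW
  obtain ⟨fs, hfs⟩ := LocSuppLib.exists_list_cover U hW
  let φ := HomCohLib.lin (M := F) (N := N) W s
  have hk : ∀ a : Fin fs.length, ∃ k : ℕ, fs.get a ^ k • φ = 0 := fun a => by
    refine HomCohLib.exists_kill_lin hW (fs.get a) φ fun m => ?_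
    have h0 : res (homMod F N) (X.basicOpen_le (fs.get a)) s = 0 := section_ext _ _ fun y hy => by
      rw [ger_res]
      exact (hs y (hfs.le (Opens.mem_iSup.2 ⟨a, hy⟩)).1 (X.basicOpen_le _ hy)).trans (map_zero _).symm
    show res N _ (happ s m) = 0
    rw [← HomCohLib.happ_res, h0, ← HomCohLib.lin_apply, map_zero]
    rfl
  choose k hk using hk
  let 𝔟 : Ideal Γ(X, W) := Ideal.span (Set.range fun a => fs.get a ^ k a)
  let K : Submodule Γ(X, W) Γ(F, W) := 𝔟 • ⊤
  have hle : K ≤ LinearMap.ker φ := by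
    refine Submodule.smul_le.2 fun r hr m _ => ?_
    have : 𝔟 ≤ LinearMap.ker (LinearMap.toSpanSingleton Γ(X, W) _ φ) := Ideal.span_le.2 fun _ ⟨a, ha⟩ => by
      subst ha; exact hk a
    have h1 : r • φ = 0 := this hr
    rw [LinearMap.mem_ker, map_smul]
    exact LinearMap.congr_fun h1 m
  refine ⟨ModuleCat.of _ (Γ(F, W) ⧸ K), ModuleCat.ofHom K.mkQ, ModuleCat.ofHom (K.liftQ φ hle),
    Module.Finite.quotient Γ(X, W) K, fun y hy hp => ?_, by ext1; exact K.liftQ_mkQ φ hle,
    fun N' _ ψ' s' e y hyU hyW => ?_⟩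
  · refine ⟨(Groth.Agent.ExtCohLib.mem_support_sections_iff hW F hy).1
      (Module.support_subset_of_surjective K.mkQ K.mkQ_surjective hp), fun hyU => ?_⟩
    obtain ⟨a, ha⟩ := Opens.mem_iSup.1 (hfs.ge (show y ∈ U ⊓ W from ⟨hyU, hy⟩))
    obtain ⟨q, hq⟩ := Module.mem_support_iff'.1 hp
    refine hq (fs.get a ^ k a) (fun hmem => (AssPointLib.mem_basicOpen_iff hW hy _).1 ha
      ((hW.primeIdealOf ⟨y, hy⟩).isPrime.mem_of_pow_mem _ hmem)) ?_
    obtain ⟨m, rfl⟩ := K.mkQ_surjective q
    exact (Submodule.Quotient.mk_eq_zero K).2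
      (Submodule.smul_mem_smul (Ideal.subset_span ⟨a, rfl⟩) Submodule.mem_top)
  · obtain ⟨a, ha⟩ := Opens.mem_iSup.1 (hfs.ge (show y ∈ U ⊓ W from ⟨hyU, hyW⟩))
    have h0 : fs.get a ^ k a • s' = 0 := by
      refine (HomCohLib.lin_bijective (M := F) (N := N') hW).1 ?_
      rw [map_zero, map_smul]
      refine LinearMap.ext fun m => ?_
      have h1 : HomCohLib.lin W s' (fs.get a ^ k a • m) = 0 := by
        refine (LinearMap.congr_fun (congrArg ModuleCat.Hom.hom e.symm) _).trans ?_
        refine (congrArg ψ'.hom ((Submodule.Quotient.mk_eq_zero K).2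
          (Submodule.smul_mem_smul (Ideal.subset_span ⟨a, rfl⟩) Submodule.mem_top))).trans (map_zero _)
      rw [map_smul] at h1
      exact h1
    have h2 := congrArg (ger (homMod F N') y hyW) h0
    rw [ger_smul, map_pow] at h2
    exact ((HomCohLib.isUnit_germ hyW ha).pow (k a)).smul_eq_zero.1 (h2.trans (map_zero _))

theorem sections_exact {S : ShortComplex X.Modules} (hS : S.ShortExact) [Coh.IsQCoh S.X₁] {W : X.Opens}
    (hW : IsAffineOpen W) :
    ∃ w, (ShortComplex.mk (ModuleCat.ofHom (appLin S.f W)) (ModuleCat.ofHom (appLin S.g W)) w).ShortExact := by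
  haveI := hS.mono_f
  refine ⟨?_, ?_⟩
  · ext1
    exact LinearMap.ext fun m => congrArg (fun q : S.X₁ ⟶ S.X₃ => q.app W m) S.zero
  refine { exact := ShortComplex.Exact.moduleCat_of_range_eq_ker _ _ ?_
           mono_f := (ModuleCat.mono_iff_injective _).2 (QCohLib.app_injective_of_mono S.f W)
           epi_g := (ModuleCat.epi_iff_surjective _).2 (QCohLib.app_surjective_of_affine hS hW) }
  refine le_antisymm ?_ fun m hm => ?_
  · rintro _ ⟨m, rfl⟩
    exact congrArg (fun q : S.X₁ ⟶ S.X₃ => q.app W m) S.zero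
  · have h0 : KFlatLib.secMap (show Γ(S.X₂, W) from m) ≫ S.g = 0 := by
      exact (KFlatLib.secMap_comp _ S.g).trans (secMap_eq_zero hm)
    obtain ⟨l, hl⟩ := KernelFork.IsLimit.lift' hS.fIsKernel _ h0
    exact ⟨l.app W (KFlatLib.genU W), (congrArg (fun q : KFlatLib.freeU W ⟶ S.X₂ => q.app W (KFlatLib.genU W)) hl).trans
      (KFlatLib.secMap_gen _)⟩

variable [HasInjectiveResolutions (ModSite.Mod X.sheaf)] [HasInjectiveResolutions X.Modules]

instance additive_TZ : (TZ U F).Additive :=
  haveI : (ModSite.sheafHom (O := X.sheaf) F).Additive :=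
    haveI : PreservesLimitsOfSize.{0, 0} (ModSite.sheafHom (O := X.sheaf) F) :=
      (ModSite.sheafHomAdj (O := X.sheaf) F).rightAdjoint_preservesLimits
    haveI : PreservesFiniteLimits (ModSite.sheafHom (O := X.sheaf) F) := inferInstance
    haveI : PreservesLimitsOfShape (Discrete PEmpty.{1}) (ModSite.sheafHom (O := X.sheaf) F) := inferInstance
    haveI : (ModSite.sheafHom (O := X.sheaf) F).PreservesZeroMorphisms :=
      Functor.preservesZeroMorphisms_of_preserves_terminal_object
    haveI := preservesBinaryBiproducts_of_preservesBinaryProducts (ModSite.sheafHom (O := X.sheaf) F)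
    Functor.additive_of_preservesBinaryBiproducts _
  inferInstanceAs (ModSite.sheafHom (O := X.sheaf) F ⋙ ModSite.sectOn X.sheaf U).Additive

omit [IsLocallyNoetherian X] in
theorem preservesFiniteLimits_TZ : PreservesFiniteLimits (TZ U F) := by
  haveI : PreservesFiniteLimits (ModSite.sheafHom (O := X.sheaf) F) :=
    haveI : PreservesLimitsOfSize.{0, 0} (ModSite.sheafHom (O := X.sheaf) F) :=
      (ModSite.sheafHomAdj (O := X.sheaf) F).rightAdjoint_preservesLimits
    inferInstance
  haveI : PreservesFiniteLimits (ModSite.sectOn X.sheaf U) :=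
    haveI : PreservesLimitsOfSize.{0, 0} (ModSite.sectOn X.sheaf U) :=
      (CohLib.quotSectAdj U).rightAdjoint_preservesLimits
    inferInstance
  exact comp_preservesFiniteLimits _ _

include hF in
theorem isZero_TZ {G : X.Modules} (hG : Coh.IsQCoh G) (h : Cond U F 0 G) : IsZero ((TZ U F).obj G) := by
  haveI := hG
  haveI := hF.1
  refine (IsZero.iff_id_eq_zero _).2 ((cancel_mono (toHom U F G)).1 ?_)
  refine InjModLib.hom_ext_of_basis (fun V : X.affineOpens => (V : X.Opens)) InjModLib.basis_affine _ _ fun V a => ?_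
  obtain ⟨V, hV⟩ := V
  rw [Category.id_comp, zero_comp, comp_zero]
  apply (KFlatLib.freeUEquiv V _).injective
  rw [KFlatLib.freeUEquiv_comp]
  let s := (toHom U F G).app V (KFlatLib.freeUEquiv V _ a)
  obtain ⟨P, π, ψ, hfin, hsupp, hπ, -⟩ := exists_factor U F hF hV s ((exists_toHom_app_iff U F G s).1 ⟨_, rfl⟩)
  haveI := h V hV P hfin hsupp
  have hψ : ψ = 0 := (Abelian.Ext.mk₀_bijective P (ModuleCat.of Γ(X, V) Γ(G, V))).1 (Subsingleton.elim _ _)
  rw [hψ, comp_zero] at hπ
  have hs : s = 0 := (HomCohLib.lin_bijective (M := F) (N := G) hV).1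
    ((congrArg ModuleCat.Hom.hom hπ).symm.trans (map_zero _).symm)
  exact hs.trans (freeUEquiv_zero V _).symm

include hF in
theorem epi_TZ_map {G J : X.Modules} (j : G ⟶ J) [Mono j] (hG : Coh.IsQCoh G) (hJ : Coh.IsQCoh J)
    (hC : Coh.IsQCoh (cokernel j)) (h : Cond U F 1 G) : Epi ((TZ U F).map (cokernel.π j)) := by
  haveI := hG; haveI := hJ; haveI := hC; haveI := hF.1
  let S : ShortComplex X.Modules := ShortComplex.mk j (cokernel.π j) (cokernel.condition j)
  have hS : S.ShortExact := { exact := ShortComplex.exact_cokernel j }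
  refine QCohLib.epi_of_surjective_on_affines _ fun V t p hp => ?_
  obtain ⟨W, hW, hpW, hWV⟩ := Opens.isBasis_iff_nbhd.1 X.isBasis_affineOpens hp
  refine ⟨W, hWV, hpW, ?_⟩
  generalize ((TZ U F).obj S.X₃).presheaf.map (homOfLE hWV).op t = b
  let s := (toHom U F S.X₃).app W b
  obtain ⟨P, π, ψ, hfin, hsupp, hπ, hback⟩ :=
    exists_factor U F hF hW s ((exists_toHom_app_iff U F S.X₃ s).1 ⟨b, rfl⟩)
  obtain ⟨w, hse⟩ := sections_exact (S := S) hS hW
  haveI := h W hW P hfin hsupp
  obtain ⟨x₂, hx₂⟩ := Abelian.Ext.covariant_sequence_exact₃ P hse (Abelian.Ext.mk₀ ψ) (zero_add 1) (Subsingleton.elim _ _)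
  obtain ⟨ψ', rfl⟩ := (Abelian.Ext.mk₀_bijective P _).2 x₂
  rw [Abelian.Ext.mk₀_comp_mk₀] at hx₂
  have hψ : ψ' ≫ ModuleCat.ofHom (appLin (cokernel.π j) W) = ψ := (Abelian.Ext.mk₀_bijective _ _).1 hx₂
  obtain ⟨s', hs'⟩ := (HomCohLib.lin_bijective (M := F) (N := J) hW).2 (π ≫ ψ').hom
  obtain ⟨a, ha⟩ := (exists_toHom_app_iff U F J s').2
    (hback J hJ ψ' s' (ModuleCat.hom_ext hs'.symm))
  refine ⟨a, QCohLib.app_injective_of_mono (toHom U F S.X₃) W ?_⟩
  refine (congrArg (fun q : (TZ U F).obj J ⟶ homMod F S.X₃ => q.app W a) (toHom_naturality U F (cokernel.π j))).trans ?_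
  refine (congrArg ((HomCohLib.mapR F (cokernel.π j)).app W) ha).trans ?_
  refine (HomCohLib.lin_bijective (M := F) (N := S.X₃) hW).1 (LinearMap.ext fun m => ?_)
  refine (HomCohLib.happ_mapR (cokernel.π j) s' m).trans ?_
  refine (congrArg ((cokernel.π j).app W) (LinearMap.congr_fun hs' m)).trans ?_
  refine Eq.trans ?_ (LinearMap.congr_fun (congrArg ModuleCat.Hom.hom hπ) m)
  exact (LinearMap.congr_fun (congrArg ModuleCat.Hom.hom hψ) (π.hom m))

include hF in
/-- **Vanishing criterion.** -/
theorem isZero_extZSh : ∀ (i : ℕ) (G : X.Modules), Coh.IsQCoh G → Cond U F i G →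
    IsZero (((TZ U F).rightDerived i).obj G)
  | 0, G, hG, h => by
    haveI := preservesFiniteLimits_TZ U F
    exact (isZero_TZ U F hF hG h).of_iso ((TZ U F).rightDerivedZeroIsoSelf.app G)
  | 1, G, hG, h => by
    haveI := preservesFiniteLimits_TZ U F
    obtain ⟨J, j, hj, hJ, hJq, hCq⟩ := exists_qcoh_injective G hG
    haveI := hj; haveI := hJ
    let S : ShortComplex X.Modules := ShortComplex.mk j (cokernel.π j) (cokernel.condition j)
    have hS : S.ShortExact := { exact := ShortComplex.exact_cokernel j }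
    exact Groth.Agent.RDerLib.isZero_X₁_succ (F := TZ U F) hS 0 ((TZ U F).isZero_rightDerived_obj_injective_succ 0 J)
      ((Groth.Agent.RDerLib.epi_map_g_iff (F := TZ U F) S.g).2 (epi_TZ_map U F hF j hG hJq hCq h))
  | i + 2, G, hG, h => by
    obtain ⟨J, j, hj, hJ, hJq, hCq⟩ := exists_qcoh_injective G hG
    haveI := hj; haveI := hJ
    let S : ShortComplex X.Modules := ShortComplex.mk j (cokernel.π j) (cokernel.condition j)
    have hS : S.ShortExact := { exact := ShortComplex.exact_cokernel j }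
    have hC : Cond U F (i + 1) (cokernel j) := fun W hW P hfin hsupp => by
      haveI := hG
      obtain ⟨w, hse⟩ := sections_exact (S := S) hS hW
      haveI := h W hW P hfin hsupp
      haveI : Module.Injective Γ(X, W) Γ(J, W) := InjModLib.sections_injective J hW
      haveI : Injective (ModuleCat.of Γ(X, W) Γ(J, W)) := Module.injective_object_of_injective_module _ _
      haveI := Abelian.Ext.subsingleton_of_injective P (ModuleCat.of Γ(X, W) Γ(J, W)) i
      refine subsingleton_of_forall_eq 0 fun x => ?_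
      obtain ⟨x₂, rfl⟩ := Abelian.Ext.covariant_sequence_exact₃ P hse x (rfl : i + 1 + 1 = i + 2) (Subsingleton.elim _ _)
      rw [Subsingleton.elim x₂ 0]
      exact Abelian.Ext.zero_comp _ _ _ _ _
    haveI := preservesFiniteLimits_TZ U F
    have hz := isZero_extZSh (i + 1) (cokernel j) hCq hC
    exact ((Groth.Agent.RDerLib.derivedLES (TZ U F)).exact₁ S hS (i + 1) (i + 2) rfl).isZero_X₂
      (hz.eq_of_src _ _) (((TZ U F).isZero_rightDerived_obj_injective_succ (i + 1) J).eq_of_tgt _ _)

/-- On a regular scheme the criterion holds above the dimension of the local rings. -/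
theorem cond_of_regular (hreg : ∀ x : X, IsRegularLocalRing (X.presheaf.stalk x)) (i : ℕ) (G : X.Modules)
    (hi : ∀ x ∈ CohB1.support F, x ∉ (U : Set X) → ringKrullDim (X.presheaf.stalk x) < (i : WithBot ℕ∞)) :
    Cond U F i G := by
  intro W hW P hfin hsupp
  haveI : IsNoetherianRing Γ(X, W) := IsLocallyNoetherian.component_noetherian ⟨W, hW⟩
  haveI := hfin
  match i with
  | 0 =>
    have hP : Subsingleton P := Module.support_eq_empty_iff.1 (Set.eq_empty_of_forall_notMem fun p hp => by
      obtain ⟨y, hy, rfl⟩ := Groth.Agent.ExtCohLib.exists_point hW p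
      obtain ⟨h1, h2⟩ := hsupp y hy hp
      exact absurd (hi y h1 h2) (not_lt.2 (ringKrullDim_nonneg_of_nontrivial)))
    refine subsingleton_of_forall_eq 0 fun x => ?_
    obtain ⟨f, rfl⟩ := (Abelian.Ext.mk₀_bijective P _).2 x
    rw [(ModuleCat.isZero_of_subsingleton P).eq_of_src f 0, Abelian.Ext.mk₀_zero]
  | n + 1 =>
    haveI : HasProjectiveDimensionLE P n := by
      refine (ModuleCat.hasProjectiveDimensionLE_iff_forall_maximalSpectrum n P).2 fun m => ?_
      let p : PrimeSpectrum Γ(X, W) := m.toPrimeSpectrum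
      by_cases hp : p ∈ Module.support Γ(X, W) P
      · obtain ⟨y, hy, hyp⟩ := Groth.Agent.ExtCohLib.exists_point hW p
        obtain ⟨h1, h2⟩ := hsupp y hy (hyp ▸ hp)
        letI : Algebra Γ(X, W) (X.presheaf.stalk y) := (X.presheaf.germ W y hy).hom.toAlgebra
        haveI : IsLocalization.AtPrime (X.presheaf.stalk y) m.asIdeal := by
          have := hW.isLocalization_stalk ⟨y, hy⟩
          rw [hyp] at this
          exact this
        let e : X.presheaf.stalk y ≃+* Localization.AtPrime m.asIdeal :=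
          (IsLocalization.algEquiv m.asIdeal.primeCompl _ _).toRingEquiv
        haveI := hreg y
        haveI : IsRegularLocalRing (Localization.AtPrime m.asIdeal) := IsRegularLocalRing.of_ringEquiv e
        have hd : (IsLocalRing.maximalIdeal (Localization.AtPrime m.asIdeal)).spanFinrank < n + 1 := by
          have h := hi y h1 h2
          rw [ringKrullDim_eq_of_ringEquiv e, ← IsRegularLocalRing.spanFinrank_maximalIdeal] at h
          exact_mod_cast h
        let Q := P.localizedModule m.asIdeal.primeCompl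
        haveI : IsLocalizedModule m.asIdeal.primeCompl (P.localizedModuleMkLinearMap m.asIdeal.primeCompl) :=
          ModuleCat.localizedModule_isLocalizedModule P m.asIdeal.primeCompl
        let eQ := LinearEquiv.extendScalarsOfIsLocalization m.asIdeal.primeCompl (Localization m.asIdeal.primeCompl)
          (IsLocalizedModule.linearEquiv m.asIdeal.primeCompl (LocalizedModule.mkLinearMap m.asIdeal.primeCompl P)
            (P.localizedModuleMkLinearMap m.asIdeal.primeCompl))
        haveI : HasProjectiveDimensionLT Q ((IsLocalRing.maximalIdeal (Localization.AtPrime m.asIdeal)).spanFinrank + 1) :=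
          CommAlgDim.PDLT.of_equiv eQ
            (CommAlgDim.pdlt_of_isRegularLocalRing (Localization.AtPrime m.asIdeal) (LocalizedModule m.asIdeal.primeCompl P))
        exact hasProjectiveDimensionLT_of_ge Q _ _ (Nat.succ_le_succ (Nat.lt_succ_iff.1 hd))
      · haveI : Subsingleton (LocalizedModule m.asIdeal.primeCompl P) := Module.notMem_support_iff.1 hp
        haveI : IsLocalizedModule m.asIdeal.primeCompl (P.localizedModuleMkLinearMap m.asIdeal.primeCompl) :=
          ModuleCat.localizedModule_isLocalizedModule P m.asIdeal.primeCompl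
        haveI : Subsingleton (P.localizedModule m.asIdeal.primeCompl) :=
          (IsLocalizedModule.linearEquiv m.asIdeal.primeCompl (LocalizedModule.mkLinearMap m.asIdeal.primeCompl P)
            (P.localizedModuleMkLinearMap m.asIdeal.primeCompl)).symm.toEquiv.subsingleton
        haveI : HasProjectiveDimensionLT (P.localizedModule m.asIdeal.primeCompl) 0 :=
          (ModuleCat.isZero_of_subsingleton _).hasProjectiveDimensionLT_zero
        exact hasProjectiveDimensionLT_of_ge _ 0 _ (Nat.zero_le _)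
    exact HasProjectiveDimensionLT.subsingleton P (n + 1) (n + 1) le_rfl _

end Groth.Agent.ExtZQCohLib
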